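import Cfsg.Agent.Lib.Helper9.TC2Pack

set_option autoImplicit false
set_option maxRecDepth 100000

namespace Cfsg.Agent.Helper9.TCData.U43CX
open Cfsg.Agent.Helper9.TC2
noncomputable def entT_0 : BT := (BT.node 6 (BT.node 2 (BT.leaf 0x9200841809) (BT.node 4 (BT.leaf 0x8a009c1021) (BT.leaf 0x4000602a))) (BT.node 8 (BT.leaf 0x30b83b) (BT.node 10 (BT.leaf 0x51006974) (BT.leaf 0x7800004bb0))))

noncomputable def cerT_0 : BT := (BT.node 6 (BT.node 2 (BT.leaf 0x1009040) (BT.node 4 (BT.leaf 0x2002082) (BT.leaf 0x806c0))) (BT.node 8 (BT.leaf 0x24c0) (BT.node 10 (BT.leaf 0x806c0) (BT.leaf 0x2000463))))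

noncomputable def lkT_0 : BT := (BT.leaf 0xa059a9c000)

noncomputable def lcT_0 : BT := (BT.leaf 0x110080441800)

noncomputable def pnT_0 : BT := (BT.leaf 0x20610000)

noncomputable def clsT_0 : BT := (BT.leaf 0x0)

noncomputable def repT_0 : BT := (BT.leaf 0x0)

noncomputable def tauT_0 : BT := (BT.node 6 (BT.node 2 (BT.leaf 0x0) (BT.node 4 (BT.leaf 0x0) (BT.leaf 0x0))) (BT.node 8 (BT.leaf 0x0) (BT.node 10 (BT.leaf 0x0) (BT.leaf 0x0))))


end Cfsg.Agent.Helper9.TCData.U43CX
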